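import Mathlib
import Groth.Agent.IdealSh.Comap

/-!
# fpqc descent of quasi-coherent ideal sheaves
-/

set_option autoImplicit false
set_option linter.style.haveILetI false

universe u

open CategoryTheory CategoryTheory.Limits AlgebraicGeometry TensorProduct

namespace Groth.Agent.SGA1Misc

open Algebra.TensorProduct in
theorem mem_map_of_forall_tensor {ι : Type*} [Finite ι] {B C : Type u} [CommRing B] [CommRing C]
    [Algebra B C] [Module.Flat B C] (D : ι → Type u) [∀ i, CommRing (D i)] [∀ i, Algebra B (D i)]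
    (J : ∀ i, Ideal (D i)) (x : C)
    (h : ∀ i, (includeLeft : C →ₐ[B] C ⊗[B] D i) x ∈
      (J i).map (includeRight : D i →ₐ[B] C ⊗[B] D i)) :
    x ∈ (⨅ i, (J i).comap (algebraMap B (D i))).map (algebraMap B C) := by
  classical
  haveI := Fintype.ofFinite ι
  let ψ : ∀ i, B →ₐ[B] D i ⧸ J i := fun i => Algebra.ofId B _
  let φ : B →ₗ[B] (∀ i, D i ⧸ J i) := LinearMap.pi fun i => (ψ i).toLinearMap
  let I : Ideal B := ⨅ i, (J i).comap (algebraMap B (D i))
  have hI : Function.Exact (Submodule.subtype I) φ := by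
    intro b
    have e : φ b = 0 ↔ b ∈ I := by
      simp only [I, Ideal.mem_iInf, Ideal.mem_comap, funext_iff, Pi.zero_apply]
      refine forall_congr' fun i => ?_
      rw [← Ideal.Quotient.eq_zero_iff_mem]
      rfl
    rw [e]
    exact ⟨fun hb => ⟨⟨b, hb⟩, rfl⟩, by rintro ⟨b, rfl⟩; exact b.2⟩
  have h0 : φ.lTensor C (x ⊗ₜ[B] 1) = 0 := by
    apply (TensorProduct.piRight B B C fun i => D i ⧸ J i).injective
    rw [map_zero, LinearMap.lTensor_tmul, TensorProduct.piRight_apply,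
      TensorProduct.piRightHom_tmul]
    funext i
    let q : C ⊗[B] D i →ₐ[B] C ⊗[B] (D i ⧸ J i) :=
      Algebra.TensorProduct.map (AlgHom.id B C) (Ideal.Quotient.mkₐ B (J i))
    have hq : (J i).map (includeRight : D i →ₐ[B] C ⊗[B] D i) ≤ RingHom.ker q := by
      rw [Ideal.map_le_iff_le_comap]
      intro y hy
      simp [q, Ideal.Quotient.eq_zero_iff_mem.mpr hy]
    have := hq (h i)
    simpa [q, φ, ψ] using this
  obtain ⟨w, hw⟩ := ((Module.Flat.lTensor_exact C hI) _).1 h0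
  have key : ∀ w : C ⊗[B] I, TensorProduct.rid B C ((Submodule.subtype I).lTensor C w) ∈
      I.map (algebraMap B C) := by
    intro w
    induction w using TensorProduct.induction_on with
    | zero => simp
    | tmul c b =>
      simp only [LinearMap.lTensor_tmul, Submodule.subtype_apply, TensorProduct.rid_tmul,
        Algebra.smul_def]
      exact Ideal.mul_mem_right _ _ (Ideal.mem_map_of_mem _ b.2)
    | add a b ha hb => simpa only [map_add] using Ideal.add_mem _ ha hb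
  simpa [hw] using key w

theorem appLE_SpecMap_fromSpec {X : Scheme.{u}} {U : X.Opens} (hU : IsAffineOpen U)
    {R : CommRingCat.{u}} (φ : Γ(X, U) ⟶ R) (e : ⊤ ≤ (Spec.map φ ≫ hU.fromSpec) ⁻¹ᵁ U) :
    (Spec.map φ ≫ hU.fromSpec).appLE U ⊤ e = φ ≫ (Scheme.ΓSpecIso R).inv := by
  rw [Scheme.Hom.comp_appLE, IsAffineOpen.fromSpec_app_self, Category.assoc,
    Scheme.Hom.map_appLE, Scheme.ΓSpecIso_inv_naturality]
  rfl

theorem exists_comap_eq {S S' : Scheme.{u}} (g : S' ⟶ S) [Flat g] [QuasiCompact g]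
    (J' : S'.IdealSheafData)
    (h : J'.comap (pullback.fst g g) = J'.comap (pullback.snd g g)) :
    (J'.map g).comap g = J' := by
  refine le_antisymm (Scheme.IdealSheafData.le_map_iff_comap_le.1 le_rfl) ?_
  choose U V hxV e using fun x : S' => IdealSh.Comap.exists_affine_pair g x
  refine Scheme.IdealSheafData.le_of_iSup_eq_top V
    (top_unique fun x _ => TopologicalSpace.Opens.mem_iSup.mpr ⟨x, hxV x⟩) fun x => ?_
  rw [IdealSh.Comap.ideal_comap _ g (U x) (V x) (e x)]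
  intro y hy
  obtain ⟨W, hW, hcov⟩ := isCompact_iff_finite_and_eq_biUnion_affineOpens.1
    (g.isCompact_preimage (U x).2.isCompact)
  haveI : Finite W := hW
  have hle : ∀ w : W, (w.1.1 : S'.Opens) ≤ g ⁻¹ᵁ (U x).1 := fun w => by
    rw [hcov]; exact le_biSup (fun i : S'.affineOpens => i.1) w.2
  letI : Algebra Γ(S, (U x).1) Γ(S', (V x).1) := (g.appLE _ _ (e x)).hom.toAlgebra
  haveI : Module.Flat Γ(S, (U x).1) Γ(S', (V x).1) := g.flat_appLE (U x).2 (V x).2 (e x)
  letI : ∀ w : W, Algebra Γ(S, (U x).1) Γ(S', w.1.1) := fun w =>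
    (g.appLE _ _ (hle w)).hom.toAlgebra
  have hmem := mem_map_of_forall_tensor (ι := W) (B := Γ(S, (U x).1)) (C := Γ(S', (V x).1))
    (fun w : W => Γ(S', w.1.1)) (fun w => J'.ideal w.1) y (fun w => ?_)
  · refine Ideal.map_mono ?_ hmem
    -- sections killed on every piece are in the pushforward ideal
    intro b hb
    show b ∈ (J'.subschemeι ≫ g).ker.ideal (U x)
    rw [Scheme.Hom.ker_apply, RingHom.mem_ker]
    refine J'.subscheme.IsSheaf.section_ext fun z hz => ?_
    have hz' : J'.subschemeι z ∈ g ⁻¹ᵁ (U x).1 := hz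
    rw [hcov] at hz'
    obtain ⟨w, hw, hzw⟩ : ∃ w ∈ W, J'.subschemeι z ∈ w.1 := by
      simpa [TopologicalSpace.Opens.mem_iSup] using hz'
    refine ⟨J'.subschemeι ⁻¹ᵁ w.1, ?_, hzw, ?_⟩
    · exact fun z hz => hle ⟨w, hw⟩ hz
    · have h1 : g.appLE (U x).1 w.1 (hle ⟨w, hw⟩) b ∈ J'.ideal w := by
        simpa [Ideal.mem_iInf, RingHom.algebraMap_toAlgebra] using (Ideal.mem_iInf.1 hb) ⟨w, hw⟩
      rw [← J'.ker_subschemeι_app w, RingHom.mem_ker] at h1
      rw [map_zero]
      convert h1 using 1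
      change ((J'.subschemeι ≫ g).app _ ≫ J'.subscheme.presheaf.map _) b =
        (g.appLE _ _ _ ≫ J'.subschemeι.app _) b
      congr 2
      change (J'.subschemeι ≫ g).appLE (U x).1 (J'.subschemeι ⁻¹ᵁ w.1)
        (fun z hz => hle ⟨w, hw⟩ hz) = _
      rw [← Scheme.Hom.appLE_comp_appLE J'.subschemeι g (U x).1 w.1 (J'.subschemeι ⁻¹ᵁ w.1)
        (hle ⟨w, hw⟩) le_rfl, ← Scheme.Hom.app_eq_appLE]
  · -- the cocycle on `V ×_U W`
    let a : Spec (.of (Γ(S', (V x).1) ⊗[Γ(S, (U x).1)] Γ(S', w.1.1))) ⟶ S' :=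
      Spec.map (CommRingCat.ofHom Algebra.TensorProduct.includeLeftRingHom) ≫ (V x).2.fromSpec
    let a' : Spec (.of (Γ(S', (V x).1) ⊗[Γ(S, (U x).1)] Γ(S', w.1.1))) ⟶ S' :=
      Spec.map (CommRingCat.ofHom
        (Algebra.TensorProduct.includeRight :
          Γ(S', w.1.1) →ₐ[Γ(S, (U x).1)] Γ(S', (V x).1) ⊗[Γ(S, (U x).1)] Γ(S', w.1.1)).toRingHom) ≫
        w.1.2.fromSpec
    have hsq : a ≫ g = a' ≫ g := by
      simp only [a, a', Category.assoc, ← (U x).2.SpecMap_appLE_fromSpec g (V x).2 (e x),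
        ← (U x).2.SpecMap_appLE_fromSpec g w.1.2 (hle w), ← Spec.map_comp_assoc]
      congr 2
      ext b
      exact (Algebra.TensorProduct.includeLeft (S := Γ(S, (U x).1)) (A := Γ(S', (V x).1))
        (B := Γ(S', w.1.1))).commutes b |>.trans (Algebra.TensorProduct.includeRight.commutes b).symm
    have hJ : J'.comap a = J'.comap a' := by
      rw [← pullback.lift_fst a a' hsq, Scheme.IdealSheafData.comap_comp, h,
        ← Scheme.IdealSheafData.comap_comp, pullback.lift_snd]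
    have ea : ⊤ ≤ a ⁻¹ᵁ (V x).1 := by
      simp [a, (V x).2.fromSpec_preimage_self]
    have ea' : ⊤ ≤ a' ⁻¹ᵁ w.1.1 := by
      simp [a', w.1.2.fromSpec_preimage_self]
    have := congrArg (fun J => J.ideal ⟨⊤, isAffineOpen_top _⟩) hJ
    simp only [IdealSh.Comap.ideal_comap _ a (V x) ⟨⊤, isAffineOpen_top _⟩ ea,
      IdealSh.Comap.ideal_comap _ a' w.1 ⟨⊤, isAffineOpen_top _⟩ ea'] at this
    rw [appLE_SpecMap_fromSpec (V x).2 _ ea, appLE_SpecMap_fromSpec w.1.2 _ ea',
      CommRingCat.hom_comp, CommRingCat.hom_comp, ← Ideal.map_map, ← Ideal.map_map] at this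
    have h2 := congrArg (Ideal.map (Scheme.ΓSpecIso _).hom.hom) this
    have hid : ((Scheme.ΓSpecIso (CommRingCat.of
        (Γ(S', (V x).1) ⊗[Γ(S, (U x).1)] Γ(S', w.1.1)))).hom.hom).comp
        ((Scheme.ΓSpecIso (CommRingCat.of
          (Γ(S', (V x).1) ⊗[Γ(S, (U x).1)] Γ(S', w.1.1)))).inv.hom) = RingHom.id _ :=
      congrArg CommRingCat.Hom.hom (Scheme.ΓSpecIso (CommRingCat.of
        (Γ(S', (V x).1) ⊗[Γ(S, (U x).1)] Γ(S', w.1.1)))).inv_hom_id
    simp only [Ideal.map_map, ← RingHom.comp_assoc, CommRingCat.hom_ofHom] at h2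
    erw [hid, RingHom.id_comp, RingHom.id_comp] at h2
    have h3 : (Algebra.TensorProduct.includeLeftRingHom :
        Γ(S', (V x).1) →+* Γ(S', (V x).1) ⊗[Γ(S, (U x).1)] Γ(S', w.1.1)) y ∈
        (J'.ideal (V x)).map Algebra.TensorProduct.includeLeftRingHom := Ideal.mem_map_of_mem _ hy
    rw [h2] at h3
    exact h3

end Groth.Agent.SGA1Misc
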