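import Mathlib
import Groth.Agent.SchPoints.Basic

/-!
# Small descent lemmas
-/

set_option autoImplicit false
set_option linter.style.haveILetI false

universe u

open CategoryTheory CategoryTheory.Limits AlgebraicGeometry Topology

namespace Groth.Agent.SGA1Misc

/-- Two maps to an unramified scheme agreeing after a surjective morphism are equal. -/
theorem eq_of_surjective_comp_eq {S T X Y : Scheme.{u}} (q : Y ⟶ S) [FormallyUnramified q]
    [LocallyOfFiniteType q] (u v : X ⟶ Y) (huv : u ≫ q = v ≫ q) (r : T ⟶ X) [Surjective r]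
    (h : r ≫ u = r ≫ v) : u = v := by
  let l : X ⟶ pullback q q := pullback.lift u v huv
  let e := pullback.fst l (pullback.diagonal q)
  haveI hopen : IsOpenImmersion e :=
    MorphismProperty.pullback_fst _ _ (inferInstanceAs (IsOpenImmersion (pullback.diagonal q)))
  let a : T ⟶ pullback l (pullback.diagonal q) := pullback.lift r (r ≫ u) (by
    apply pullback.hom_ext
    · simp only [l, Category.assoc]
      erw [pullback.lift_fst, pullback.diagonal_fst, Category.comp_id]
    · simp only [l, Category.assoc]
      erw [pullback.lift_snd, pullback.diagonal_snd, Category.comp_id]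
      exact h.symm)
  haveI : Surjective e := ⟨fun x => by
    obtain ⟨t, rfl⟩ := r.surjective x
    exact ⟨a t, congrArg (fun k : T ⟶ X => k.base t) (pullback.lift_fst r (r ≫ u) _)⟩⟩
  haveI : IsIso e := (isIso_iff_isOpenImmersion_and_surjective e).2 ⟨hopen, inferInstance⟩
  rw [← cancel_epi e]
  have c := pullback.condition (f := l) (g := pullback.diagonal q)
  have c1 := congrArg (· ≫ pullback.fst q q) c
  have c2 := congrArg (· ≫ pullback.snd q q) c
  simp only [l, Category.assoc, pullback.lift_fst, pullback.diagonal_fst, Category.comp_id] at c1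
  simp only [l, Category.assoc, pullback.lift_snd, pullback.diagonal_snd, Category.comp_id] at c2
  exact c1.trans c2.symm

theorem isEmbedding_of_pullback_snd {X Y Y' : Scheme.{u}} (f : X ⟶ Y) (g : Y' ⟶ Y)
    [QuasiCompact f] [Flat g] [Surjective g]
    (h : IsEmbedding (pullback.snd f g).base) : IsEmbedding f.base := by
  have hinj : Function.Injective f.base := by
    intro x₁ x₂ hx
    obtain ⟨y', hy'⟩ := g.surjective (f x₁)
    obtain ⟨z₁, a₁, b₁⟩ := Scheme.Pullback.exists_preimage_pullback (f := f) (g := g) x₁ y' hy'.symm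
    obtain ⟨z₂, a₂, b₂⟩ := Scheme.Pullback.exists_preimage_pullback (f := f) (g := g) x₂ y'
      (hx.symm.trans hy'.symm)
    rw [← a₁, ← a₂, h.injective (b₁.trans b₂.symm)]
  have hclosed : ∀ C : Set X, IsClosed C → f.base ⁻¹' closure (f.base '' C) ⊆ C := by
    intro C hC x hx
    let I := Scheme.IdealSheafData.vanishingIdeal ⟨C, hC⟩
    have hr : Set.range (I.subschemeι ≫ f).base = f.base '' C := by
      rw [Scheme.Hom.comp_base, TopCat.coe_comp, Set.range_comp,
        Scheme.IdealSheafData.range_subschemeι]
      rfl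
    have hx' : f.base x ∈ closure (Set.range (I.subschemeι ≫ f).base) := by rw [hr]; exact hx
    obtain ⟨c₀, hc₀⟩ := SchPoints.exists_specializes_of_mem_closure_range (I.subschemeι ≫ f) hx'
    let c := I.subschemeι c₀
    have hcC : c ∈ C := by
      have : c ∈ Set.range I.subschemeι.base := ⟨c₀, rfl⟩
      rw [Scheme.IdealSheafData.range_subschemeι] at this
      exact this
    have hc : f c ⤳ f x := hc₀
    obtain ⟨y', hy'⟩ := g.surjective (f x)
    obtain ⟨y₁, hy₁, hgy₁⟩ := Flat.generalizingMap g (show f c ⤳ g y' by rw [hy']; exact hc)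
    obtain ⟨z, a, b⟩ := Scheme.Pullback.exists_preimage_pullback (f := f) (g := g) c y₁ hgy₁.symm
    obtain ⟨z', a', b'⟩ := Scheme.Pullback.exists_preimage_pullback (f := f) (g := g) x y' hy'.symm
    have hz : z ⤳ z' := h.isInducing.specializes_iff.1 (by
      change pullback.snd f g z ⤳ pullback.snd f g z'
      rw [b, b']; exact hy₁)
    have := hz.map (pullback.fst f g).continuous
    rw [a, a'] at this
    exact this.mem_closed hC hcC
  refine ⟨(isInducing_iff _).2 ?_, hinj⟩
  refine TopologicalSpace.ext_iff_isClosed.2 fun C => ?_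
  rw [isClosed_induced_iff]
  constructor
  · intro hC
    exact ⟨closure (f.base '' C), isClosed_closure, Set.Subset.antisymm (hclosed C hC)
      (fun x hx => subset_closure ⟨x, hx, rfl⟩)⟩
  · rintro ⟨D, hD, rfl⟩
    exact hD.preimage f.continuous

/-- Graphs of maps into étale schemes and the opens they cut out. -/
theorem graph_etale {S X Y : Scheme.{u}} (p : X ⟶ S) (q : Y ⟶ S) [Etale q] :
    (∀ f : {f : X ⟶ Y // f ≫ q = p},
      IsOpenImmersion (pullback.lift (𝟙 X) f.1 ((Category.id_comp p).trans f.2.symm) :
        X ⟶ pullback p q)) ∧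
    ∀ Γ : (pullback p q).Opens, UniversallyInjective (Γ.ι ≫ pullback.fst p q) →
      Surjective (Γ.ι ≫ pullback.fst p q) →
      ∃! f : {f : X ⟶ Y // f ≫ q = p},
        Set.range (pullback.lift (𝟙 X) f.1 ((Category.id_comp p).trans f.2.symm) :
          X ⟶ pullback p q).base = (Γ : Set ↥(pullback p q)) := by
  haveI : Etale (pullback.fst p q) :=
    MorphismProperty.pullback_fst _ _ (inferInstanceAs (Etale q))
  have hgraph : ∀ f : {f : X ⟶ Y // f ≫ q = p},
      IsOpenImmersion (pullback.lift (𝟙 X) f.1 ((Category.id_comp p).trans f.2.symm) :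
        X ⟶ pullback p q) := by
    intro f
    let l : X ⟶ pullback p q := pullback.lift (𝟙 X) f.1 ((Category.id_comp p).trans f.2.symm)
    haveI : Etale (l ≫ pullback.fst p q) := by
      simp only [l, pullback.lift_fst]; infer_instance
    haveI : Etale l := Etale.of_comp l (pullback.fst p q)
    haveI : IsSplitMono l := ⟨⟨pullback.fst p q, pullback.lift_fst _ _ _⟩⟩
    exact IsOpenImmersion.of_flat_of_mono l
  refine ⟨hgraph, fun Γ hinj hsurj => ?_⟩
  haveI := hinj
  haveI := hsurj
  let π := Γ.ι ≫ pullback.fst p q
  haveI : Etale π := inferInstanceAs (Etale (Γ.ι ≫ pullback.fst p q))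
  haveI : IsOpenImmersion π := by
    haveI : UniversallyInjective π := hinj
    haveI : Mono π := by
      have hd : IsOpenImmersion (pullback.diagonal π) := inferInstance
      have hs : Surjective (pullback.diagonal π) :=
        (UniversallyInjective.iff_diagonal π).1 inferInstance
      haveI : IsIso (pullback.diagonal π) :=
        (isIso_iff_isOpenImmersion_and_surjective _).2 ⟨hd, hs⟩
      exact (pullback.isIso_diagonal_iff π).1 inferInstance
    exact IsOpenImmersion.of_flat_of_mono π
  haveI : IsIso π := (isIso_iff_isOpenImmersion_and_surjective π).2 ⟨inferInstance, hsurj⟩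
  let u : X ⟶ Y := inv π ≫ Γ.ι ≫ pullback.snd p q
  have hu : u ≫ q = p := by
    simp only [u, Category.assoc, ← pullback.condition]
    rw [IsIso.inv_comp_eq]
    simp [π]
  have hl : (pullback.lift (𝟙 X) u ((Category.id_comp p).trans hu.symm) : X ⟶ pullback p q) =
      inv π ≫ Γ.ι := by
    apply pullback.hom_ext
    · rw [pullback.lift_fst, Category.assoc, IsIso.inv_hom_id]
    · rw [pullback.lift_snd, Category.assoc]
  refine ⟨⟨u, hu⟩, ?_, fun f hf => ?_⟩
  · change Set.range (pullback.lift (𝟙 X) u ((Category.id_comp p).trans hu.symm) :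
      X ⟶ pullback p q).base = (Γ : Set ↥(pullback p q))
    rw [hl, Scheme.Hom.comp_base, TopCat.coe_comp,
      (show Function.Surjective (inv π).base from (inv π).surjective).range_comp,
      Scheme.Opens.range_ι]
  · apply Subtype.ext
    let l : X ⟶ pullback p q := pullback.lift (𝟙 X) f.1 ((Category.id_comp p).trans f.2.symm)
    have hle : Set.range l.base ⊆ Set.range Γ.ι.base := by
      rw [Scheme.Opens.range_ι]; exact hf.le
    let a := IsOpenImmersion.lift Γ.ι l hle
    have ha : a ≫ Γ.ι = l := IsOpenImmersion.lift_fac _ _ hle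
    have haπ : a ≫ π = 𝟙 X := by
      simp only [π, reassoc_of% ha, l, pullback.lift_fst]
    have : a = inv π := IsIso.eq_inv_of_inv_hom_id (f := π) haπ
    change f.1 = u
    calc f.1 = l ≫ pullback.snd p q := (pullback.lift_snd _ _ _).symm
      _ = u := by rw [← ha, this, Category.assoc]

end Groth.Agent.SGA1Misc
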