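import Mathlib
import Groth.Prelude.Def_SGA1

/-!
# Descent of topological properties along universally submersive morphisms
-/

set_option autoImplicit false

universe u

open CategoryTheory CategoryTheory.Limits AlgebraicGeometry Topology

namespace Groth.Agent.SGA1Misc

variable {X Y X' Y' : Scheme.{u}} {a : X' ⟶ X} {f' : X' ⟶ Y'} {f : X ⟶ Y} {h : Y' ⟶ Y}

theorem univSubmersive_isQuotientMap (hh : SGA1.UnivSubmersive h) : IsQuotientMap h.base :=
  MorphismProperty.universally_le _ _ hh

theorem univSubmersive_surjective (hh : SGA1.UnivSubmersive h) : Surjective h :=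
  ⟨(univSubmersive_isQuotientMap hh).surjective⟩

theorem preimage_image_eq (hp : IsPullback a f' f h) (U : Set X) :
    h.base ⁻¹' (f.base '' U) = f'.base '' (a.base ⁻¹' U) := by
  ext y'
  constructor
  · rintro ⟨x, hx, hxy⟩
    obtain ⟨z, z1, z2⟩ := Scheme.Pullback.exists_preimage_pullback (f := f) (g := h) x y' hxy
    refine ⟨hp.isoPullback.inv z, ?_, ?_⟩
    · change a (hp.isoPullback.inv z) ∈ U
      rw [← Scheme.Hom.comp_apply, hp.isoPullback_inv_fst, z1]
      exact hx
    · change f' (hp.isoPullback.inv z) = y'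
      rw [← Scheme.Hom.comp_apply, hp.isoPullback_inv_snd, z2]
  · rintro ⟨x', hx', rfl⟩
    refine ⟨a x', hx', ?_⟩
    change f (a x') = h (f' x')
    rw [← Scheme.Hom.comp_apply, ← Scheme.Hom.comp_apply, hp.w]

theorem isOpenMap_of_isPullback (hp : IsPullback a f' f h) (hh : IsQuotientMap h.base)
    (hf : IsOpenMap f'.base) : IsOpenMap f.base := by
  intro U hU
  rw [← hh.isOpen_preimage, preimage_image_eq hp]
  exact hf _ (hU.preimage a.base.hom.continuous)

theorem isClosedMap_of_isPullback (hp : IsPullback a f' f h) (hh : IsQuotientMap h.base)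
    (hf : IsClosedMap f'.base) : IsClosedMap f.base := by
  intro U hU
  rw [← hh.isClosed_preimage, preimage_image_eq hp]
  exact hf _ (hU.preimage a.base.hom.continuous)

/-- A base change of `f'` along which `P` is checked. -/
theorem universally_of_isPullback {P : MorphismProperty Scheme.{u}}
    (hP : ∀ ⦃X Y X' Y' : Scheme.{u}⦄ ⦃a : X' ⟶ X⦄ ⦃f' : X' ⟶ Y'⦄ ⦃f : X ⟶ Y⦄ ⦃h : Y' ⟶ Y⦄,
      IsPullback a f' f h → IsQuotientMap h.base → P f' → P f)
    (hp : IsPullback a f' f h) (hh : SGA1.UnivSubmersive h) (hf : P.universally f') :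
    P.universally f := by
  intro T' T i₁ i₂ fT hT
  -- `hT : IsPullback fT i₁ i₂ f`
  have sT : IsPullback (pullback.fst i₂ h) (pullback.snd i₂ h) i₂ h := .of_hasPullback _ _
  refine hP (IsPullback.of_hasPullback fT (pullback.fst i₂ h)) ?_ ?_
  · exact hh _ _ _ (IsPullback.of_hasPullback i₂ h)
  · have big : IsPullback (pullback.snd fT (pullback.fst i₂ h))
        (pullback.fst fT (pullback.fst i₂ h) ≫ i₁) (pullback.snd i₂ h ≫ h) f := by
      rw [← sT.w]
      exact (IsPullback.of_hasPullback fT (pullback.fst i₂ h)).flip.paste_vert hT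
    obtain ⟨l, hl1, hl2⟩ : ∃ l : pullback fT (pullback.fst i₂ h) ⟶ X', l ≫ a = pullback.fst fT (pullback.fst i₂ h) ≫ i₁ ∧
        l ≫ f' = pullback.snd fT (pullback.fst i₂ h) ≫ pullback.snd i₂ h :=
      ⟨hp.lift _ _ (big.w.symm.trans (Category.assoc _ _ _).symm), hp.lift_fst _ _ _, hp.lift_snd _ _ _⟩
    rw [← hl1] at big
    exact hf l (pullback.snd i₂ h) _ (IsPullback.of_bot big hl2.symm hp.flip)

theorem universallyOpen_of_isPullback (hp : IsPullback a f' f h) (hh : SGA1.UnivSubmersive h)
    (hf : UniversallyOpen f') : UniversallyOpen f := by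
  rw [UniversallyOpen.eq] at hf ⊢
  exact universally_of_isPullback (P := topologically @IsOpenMap)
    (fun _ _ _ _ _ _ _ _ hp hh hf => isOpenMap_of_isPullback hp hh hf) hp hh hf

theorem universallyClosed_of_isPullback (hp : IsPullback a f' f h) (hh : SGA1.UnivSubmersive h)
    (hf : UniversallyClosed f') : UniversallyClosed f := by
  rw [universallyClosed_eq] at hf ⊢
  exact universally_of_isPullback (P := topologically @IsClosedMap)
    (fun _ _ _ _ _ _ _ _ hp hh hf => isClosedMap_of_isPullback hp hh hf) hp hh hf

theorem isSeparated_of_isPullback (hp : IsPullback a f' f h) (hh : SGA1.UnivSubmersive h)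
    (hf : IsSeparated f') : IsSeparated f := by
  constructor
  apply IsClosedImmersion.of_isPreimmersion
  let π := pullback.fst (pullback.fst f f ≫ f) h
  let w := pullback.snd (pullback.fst f f ≫ f) h
  have hπ : IsQuotientMap π.base := hh _ _ _ (IsPullback.of_hasPullback _ _)
  rw [← hπ.isClosed_preimage]
  let c₁ := hp.lift (π ≫ pullback.fst f f) w ((Category.assoc _ _ _).trans pullback.condition)
  let c₂ := hp.lift (π ≫ pullback.snd f f) w (by
    rw [Category.assoc, ← pullback.condition (f := f) (g := f)]
    exact pullback.condition)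
  let l := pullback.lift (f := f') (g := f') c₁ c₂ (by simp [c₁, c₂])
  suffices H : π.base ⁻¹' Set.range (pullback.diagonal f).base =
      Set.range (pullback.fst l (pullback.diagonal f')).base by
    refine H.symm ▸ ?_
    exact (pullback.fst l (pullback.diagonal f')).isClosedEmbedding.isClosed_range
  rw [← Scheme.Pullback.range_fst π (pullback.diagonal f)]
  -- the two subschemes factor through one another
  let W₁ := pullback π (pullback.diagonal f)
  let W₂ := pullback l (pullback.diagonal f')
  have e₁ : pullback.fst π (pullback.diagonal f) ≫ π ≫ pullback.fst f f =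
      pullback.fst π (pullback.diagonal f) ≫ π ≫ pullback.snd f f := by
    simp only [pullback.condition_assoc, pullback.diagonal_fst, pullback.diagonal_snd]
  have e₁' : pullback.fst π (pullback.diagonal f) ≫ c₁ = pullback.fst π (pullback.diagonal f) ≫ c₂ := by
    apply hp.hom_ext
    · simp only [c₁, c₂, Category.assoc, IsPullback.lift_fst, e₁]
    · simp only [c₁, c₂, Category.assoc, IsPullback.lift_snd]
  have e₂ : pullback.fst l (pullback.diagonal f') ≫ c₁ = pullback.fst l (pullback.diagonal f') ≫ c₂ := by
    have q := pullback.condition (f := l) (g := pullback.diagonal f')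
    have q1 := congrArg (· ≫ pullback.fst f' f') q
    have q2 := congrArg (· ≫ pullback.snd f' f') q
    simp only [l, Category.assoc, pullback.lift_fst, pullback.diagonal_fst, Category.comp_id] at q1
    simp only [l, Category.assoc, pullback.lift_snd, pullback.diagonal_snd, Category.comp_id] at q2
    exact q1.trans q2.symm
  let u₁ : W₁ ⟶ W₂ := pullback.lift (pullback.fst _ _) (pullback.fst _ _ ≫ c₁) (by
    apply pullback.hom_ext <;>
      simp only [l, Category.assoc, pullback.lift_fst, pullback.lift_snd, pullback.diagonal_fst,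
        pullback.diagonal_snd, Category.comp_id]
    exact e₁'.symm)
  let u₂ : W₂ ⟶ W₁ := pullback.lift (pullback.fst _ _) (pullback.fst _ _ ≫ π ≫ pullback.fst f f) (by
    apply pullback.hom_ext <;>
      simp only [Category.assoc, pullback.diagonal_fst, pullback.diagonal_snd, Category.comp_id]
    have := congrArg (· ≫ a) e₂
    simp only [c₁, c₂, Category.assoc, IsPullback.lift_fst] at this
    exact this.symm)
  apply le_antisymm
  · rintro _ ⟨z, rfl⟩
    exact ⟨u₁ z, congrArg (fun k : W₁ ⟶ _ => k.base z) (pullback.lift_fst _ _ _)⟩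
  · rintro _ ⟨z, rfl⟩
    exact ⟨u₂ z, congrArg (fun k : W₂ ⟶ _ => k.base z) (pullback.lift_fst _ _ _)⟩

/-- The square expressing that the base change `X ×_S S' ⟶ Y ×_S S'` of `f` is a pullback of `f`. -/
theorem isPullback_map {S' S X Y : Scheme.{u}} (g : S' ⟶ S) (f : X ⟶ Y) (q : Y ⟶ S) :
    IsPullback (pullback.fst (f ≫ q) g)
      (pullback.map (f ≫ q) g q g f (𝟙 S') (𝟙 S) (Category.comp_id _)
        ((Category.comp_id _).trans (Category.id_comp _).symm))
      f (pullback.fst q g) := by
  refine IsPullback.of_bot (v₂₁ := pullback.snd q g) (v₂₂ := q) (h₃₁ := g) ?_ ?_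
    (IsPullback.of_hasPullback q g)
  · have e : pullback.map (f ≫ q) g q g f (𝟙 S') (𝟙 S) (Category.comp_id _)
        ((Category.comp_id _).trans (Category.id_comp _).symm) ≫ pullback.snd q g =
        pullback.snd (f ≫ q) g := (pullback.lift_snd _ _ _).trans (Category.comp_id _)
    rw [e]
    exact IsPullback.of_hasPullback _ _
  · exact (pullback.lift_fst _ _ _).symm

theorem univSubmersive_pullback_fst {S' S Y : Scheme.{u}} {g : S' ⟶ S}
    (hg : SGA1.UnivSubmersive g) (q : Y ⟶ S) : SGA1.UnivSubmersive (pullback.fst q g) :=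
  (MorphismProperty.universally_isStableUnderBaseChange _).of_isPullback
    (IsPullback.of_hasPullback q g).flip hg

end Groth.Agent.SGA1Misc
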