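import Mathlib
import Groth.Prelude.Def_SGA1
import Groth.Agent.SGA1Misc.Descent
import Groth.Agent.SGA1Misc.SubmDescent

/-!
# Sections of étale morphisms descend along universally submersive morphisms
-/

set_option autoImplicit false
set_option linter.style.haveILetI false

universe u

open CategoryTheory CategoryTheory.Limits AlgebraicGeometry Topology

namespace Groth.Agent.SGA1Misc

theorem exists_section_of_univSubmersive {Z X X' : Scheme.{u}} (π : Z ⟶ X) [Etale π]
    (h : X' ⟶ X) (hh : SGA1.UnivSubmersive h) (s' : X' ⟶ Z) (hs' : s' ≫ π = h)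
    (hcoc : pullback.fst h h ≫ s' = pullback.snd h h ≫ s') :
    ∃ s : X ⟶ Z, s ≫ π = 𝟙 X ∧ h ≫ s = s' := by
  haveI : Surjective h := univSubmersive_surjective hh
  -- the graph of `s'` in the base change
  let g' : X' ⟶ pullback π h := pullback.lift s' (𝟙 X') (by rw [hs', Category.id_comp])
  haveI : Etale (g' ≫ pullback.snd π h) := by
    simp only [g', pullback.lift_snd]; infer_instance
  haveI : Etale (pullback.snd π h) := MorphismProperty.pullback_snd _ _ inferInstance
  haveI : Etale g' := Etale.of_comp g' (pullback.snd π h)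
  haveI : IsSplitMono g' := ⟨⟨pullback.snd π h, pullback.lift_snd _ _ _⟩⟩
  haveI : IsOpenImmersion g' := IsOpenImmersion.of_flat_of_mono g'
  -- a point over the image of `s'` is on the graph
  have hpre : (pullback.fst π h).base ⁻¹' Set.range s'.base = Set.range g'.base := by
    apply Set.Subset.antisymm
    · rintro z' ⟨x'', hx''⟩
      obtain ⟨t, t1, t2⟩ := Scheme.Pullback.exists_preimage_pullback (f := pullback.fst π h)
        (g := s') z' x'' hx''.symm
      let T := pullback (pullback.fst π h) s'
      let m : T ⟶ pullback h h := pullback.lift (pullback.fst _ _ ≫ pullback.snd π h)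
        (pullback.snd (pullback.fst π h) s') (by
          rw [Category.assoc, ← pullback.condition (f := π) (g := h), ← Category.assoc,
            pullback.condition (f := pullback.fst π h) (g := s'), Category.assoc, hs'])
      have e : pullback.fst (pullback.fst π h) s' =
          (pullback.fst (pullback.fst π h) s' ≫ pullback.snd π h) ≫ g' := by
        apply pullback.hom_ext
        · have := congrArg (m ≫ ·) hcoc
          simp only [m, pullback.lift_fst_assoc, pullback.lift_snd_assoc] at this
          rw [Category.assoc, Category.assoc, pullback.lift_fst,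
            pullback.condition (f := pullback.fst π h) (g := s'), ← this, Category.assoc]
        · rw [Category.assoc, Category.assoc, pullback.lift_snd, Category.comp_id]
      refine ⟨(pullback.fst (pullback.fst π h) s' ≫ pullback.snd π h) t, ?_⟩
      rw [← t1]
      exact (congrArg (fun k : T ⟶ pullback π h => k.base t) e).symm
    · rintro _ ⟨x', rfl⟩
      exact ⟨x', (congrArg (fun k : X' ⟶ Z => k.base x') (pullback.lift_fst s' (𝟙 X') _)).symm⟩
  have hq : IsQuotientMap (pullback.fst π h).base := hh _ _ _ (IsPullback.of_hasPullback π h)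
  let Γ : Z.Opens := ⟨Set.range s'.base, by
    rw [← hq.isOpen_preimage, hpre]; exact g'.isOpenEmbedding.isOpen_range⟩
  -- morphisms into `Γ` are determined by `s'` after base change to `X'`
  have key : ∀ {T : Scheme.{u}} (k : T ⟶ Z) (b : T ⟶ X') (_ : k ≫ π = b ≫ h),
      Set.range k.base ⊆ Set.range s'.base → k = b ≫ s' := by
    intro T k b hkb hk
    let l : T ⟶ pullback π h := pullback.lift k b hkb
    have hl : Set.range l.base ⊆ Set.range g'.base := by
      rw [← hpre]
      rintro _ ⟨t, rfl⟩
      show (pullback.fst π h) (l t) ∈ Set.range s'.base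
      rw [← Scheme.Hom.comp_apply, pullback.lift_fst]
      exact hk ⟨t, rfl⟩
    have fac := IsOpenImmersion.lift_fac g' l hl
    have f1 : IsOpenImmersion.lift g' l hl = b :=
      calc IsOpenImmersion.lift g' l hl
          = IsOpenImmersion.lift g' l hl ≫ g' ≫ pullback.snd π h := by
            simp only [g', pullback.lift_snd, Category.comp_id]
        _ = l ≫ pullback.snd π h := by rw [← Category.assoc, fac]
        _ = b := pullback.lift_snd _ _ _
    calc k = l ≫ pullback.fst π h := (pullback.lift_fst _ _ _).symm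
      _ = (b ≫ g') ≫ pullback.fst π h := by rw [← f1, fac]
      _ = b ≫ s' := by simp only [g', Category.assoc, pullback.lift_fst]
  let ρ := Γ.ι ≫ π
  haveI : Etale ρ := inferInstanceAs (Etale (Γ.ι ≫ π))
  have hΓ : ∀ {T : Scheme.{u}} (m : T ⟶ Γ), Set.range (m ≫ Γ.ι).base ⊆ Set.range s'.base := by
    rintro T m _ ⟨t, rfl⟩
    exact (m t).2
  haveI : Mono ρ := by
    let e := pullback.fst (pullback.fst ρ ρ ≫ ρ) h
    let b := pullback.snd (pullback.fst ρ ρ ≫ ρ) h
    have c : pullback.fst ρ ρ ≫ ρ = pullback.snd ρ ρ ≫ ρ := pullback.condition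
    have k₁ : ((e ≫ pullback.fst ρ ρ) ≫ Γ.ι) = b ≫ s' := key _ b (by
      simp only [Category.assoc]; exact pullback.condition) (hΓ _)
    have k₂ : ((e ≫ pullback.snd ρ ρ) ≫ Γ.ι) = b ≫ s' := key _ b (by
      simp only [Category.assoc]
      exact (congrArg (e ≫ ·) c.symm).trans pullback.condition) (hΓ _)
    have eq : pullback.fst ρ ρ ≫ Γ.ι = pullback.snd ρ ρ ≫ Γ.ι :=
      eq_of_surjective_comp_eq π _ _ (by simpa only [ρ, Category.assoc] using c) e
        (by simpa only [Category.assoc] using k₁.trans k₂.symm)
    rw [cancel_mono] at eq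
    exact ⟨fun u v huv => ((pullback.lift_fst u v huv).symm.trans
      (congrArg (pullback.lift u v huv ≫ ·) eq)).trans (pullback.lift_snd u v huv)⟩
  haveI : IsOpenImmersion ρ := IsOpenImmersion.of_flat_of_mono ρ
  haveI : Surjective ρ := ⟨fun x => by
    obtain ⟨x', rfl⟩ := h.surjective x
    exact ⟨⟨s' x', ⟨x', rfl⟩⟩, congrArg (fun k : X' ⟶ X => k.base x') hs'⟩⟩
  haveI : IsIso ρ := (isIso_iff_isOpenImmersion_and_surjective ρ).2 ⟨inferInstance, inferInstance⟩
  refine ⟨inv ρ ≫ Γ.ι, by simp [ρ], ?_⟩
  refine (key (h ≫ inv ρ ≫ Γ.ι) (𝟙 X') (by simp [ρ]) ?_).trans (Category.id_comp _)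
  rintro _ ⟨t, rfl⟩
  exact ((h ≫ inv ρ) t).2

end Groth.Agent.SGA1Misc
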