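import Mathlib

/-!
Flatness criterion modulo a nilpotent ideal, for modules in an arbitrary universe.
-/

set_option autoImplicit false
set_option linter.style.haveILetI false
open TensorProduct

universe u v

namespace Groth.Agent.SGA1Misc

variable {R : Type u} [CommRing R]

/-- An `S`-linear injection stays injective after `⊗_R M` when `S ⊗_R M` is `S`-flat. -/
theorem rTensor_injective_of_flat_baseChange (S : Type u) [CommRing S] [Algebra R S]
    (M : Type v) [AddCommGroup M] [Module R M] [Module.Flat S (S ⊗[R] M)]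
    {A B : Type u} [AddCommGroup A] [Module S A] [Module R A] [IsScalarTower R S A]
    [AddCommGroup B] [Module S B] [Module R B] [IsScalarTower R S B]
    (a : A →ₗ[S] B) (ha : Function.Injective a) :
    Function.Injective ((a.restrictScalars R).rTensor M) := by
  let eA := AlgebraTensorModule.cancelBaseChange R S S A M
  let eB := AlgebraTensorModule.cancelBaseChange R S S B M
  have key : ∀ z, (a.restrictScalars R).rTensor M (eA z) = eB (a.rTensor (S ⊗[R] M) z) := by
    intro z
    induction z using TensorProduct.induction_on with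
    | zero => simp
    | tmul x y =>
      induction y using TensorProduct.induction_on with
      | zero => simp
      | tmul s m => simp [eA, eB]
      | add u v hu hv => simp only [TensorProduct.tmul_add, map_add, hu, hv]
    | add u v hu hv => simp only [map_add, hu, hv]
  intro x y hxy
  obtain ⟨x, rfl⟩ := eA.surjective x
  obtain ⟨y, rfl⟩ := eA.surjective y
  rw [key, key] at hxy
  rw [Module.Flat.rTensor_preserves_injective_linearMap a ha (eB.injective hxy)]

/-- An injection into a module killed by `I` stays injective after `⊗ M` when `M / I M` is flat. -/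
theorem rTensor_injective_of_killed (I : Ideal R) (M : Type v) [AddCommGroup M] [Module R M]
    [Module.Flat (R ⧸ I) ((R ⧸ I) ⊗[R] M)]
    {A B : Type u} [AddCommGroup A] [Module R A] [AddCommGroup B] [Module R B]
    (a : A →ₗ[R] B) (ha : Function.Injective a) (hB : ∀ r ∈ I, ∀ x : B, r • x = 0) :
    Function.Injective (a.rTensor M) := by
  have hB' : Module.IsTorsionBySet R B (I : Set R) := fun x r => hB r r.2 x
  have hA' : Module.IsTorsionBySet R A (I : Set R) := fun x r =>
    ha (by rw [map_smul, map_zero]; exact hB r r.2 _)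
  letI := hB'.module
  letI := hA'.module
  haveI : IsScalarTower R (R ⧸ I) B := hB'.isScalarTower
  haveI : IsScalarTower R (R ⧸ I) A := hA'.isScalarTower
  let a' : A →ₗ[R ⧸ I] B :=
    { toFun := a
      map_add' := map_add a
      map_smul' := fun s x => by
        obtain ⟨r, rfl⟩ := Ideal.Quotient.mk_surjective s
        exact map_smul a r x }
  exact rTensor_injective_of_flat_baseChange (R ⧸ I) M a' ha

/-- Flatness from flatness modulo `I₁` and `I₂` with `I₁ I₂ = 0` and `I₁ ⊗ M → M` injective. -/
theorem flat_of_flat_quotients (I₁ I₂ : Ideal R) (hI : ∀ x ∈ I₁, ∀ y ∈ I₂, y * x = 0)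
    (M : Type v) [AddCommGroup M] [Module R M]
    [Module.Flat (R ⧸ I₁) ((R ⧸ I₁) ⊗[R] M)] [Module.Flat (R ⧸ I₂) ((R ⧸ I₂) ⊗[R] M)]
    (h : Function.Injective ((Submodule.subtype I₁).rTensor M)) : Module.Flat R M := by
  rw [Module.Flat.iff_rTensor_injective']
  intro J
  rw [injective_iff_map_eq_zero]
  intro x hx
  let g : J →ₗ[R] R ⧸ I₁ := I₁.mkQ ∘ₗ Submodule.subtype J
  have hg : (LinearMap.range g).subtype.rTensor M (g.rangeRestrict.rTensor M x) = 0 := by
    rw [← LinearMap.rTensor_comp_apply, LinearMap.subtype_comp_codRestrict]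
    rw [LinearMap.rTensor_comp_apply, hx, map_zero]
  have h0 : g.rangeRestrict.rTensor M x = 0 := by
    refine rTensor_injective_of_killed I₁ M _ (Submodule.injective_subtype _) ?_ (hg.trans (map_zero _).symm)
    intro r hr y
    rw [Algebra.smul_def, Ideal.Quotient.algebraMap_eq, Ideal.Quotient.eq_zero_iff_mem.mpr hr, zero_mul]
  obtain ⟨y, rfl⟩ := (rTensor_exact M (f := (LinearMap.ker g).subtype) (g := g.rangeRestrict)
    (LinearMap.exact_iff.mpr (by simp)) g.surjective_rangeRestrict x).mp h0
  let ι : LinearMap.ker g →ₗ[R] I₁ := LinearMap.codRestrict I₁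
    (Submodule.subtype J ∘ₗ (LinearMap.ker g).subtype)
    (fun z => (Submodule.Quotient.mk_eq_zero I₁).mp z.2)
  have hι : Function.Injective ι := fun u v huv => by
    have := congrArg Subtype.val huv
    exact Subtype.ext (Subtype.ext this)
  have hinj : Function.Injective (ι.rTensor M) :=
    rTensor_injective_of_killed I₂ M ι hι fun r hr z => Subtype.ext (hI z z.2 r hr)
  have hy : y = 0 := by
    refine hinj (h ?_)
    rw [map_zero, map_zero, ← LinearMap.rTensor_comp_apply, LinearMap.subtype_comp_codRestrict,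
      LinearMap.rTensor_comp_apply, hx]
  rw [hy, map_zero]

/-- Flatness modulo a nilpotent ideal together with the vanishing of `Tor₁`. -/
theorem flat_of_isNilpotent (n : ℕ) : ∀ (R : Type u) [CommRing R] (I : Ideal R) (M : Type max u v)
    [AddCommGroup M] [Module R M], I ^ (n + 1) = ⊥ → Module.Flat (R ⧸ I) ((R ⧸ I) ⊗[R] M) →
    Function.Injective ((Submodule.subtype I).rTensor M) → Module.Flat R M := by
  induction n with
  | zero =>
    intro R _ I M _ _ hI hfl hinj
    haveI := hfl
    rw [zero_add, pow_one] at hI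
    exact flat_of_flat_quotients I I (fun x _ y hy => by
      rw [hI, Ideal.mem_bot] at hy; rw [hy, zero_mul]) M hinj
  | succ n ih =>
    intro R _ I M _ _ hI hfl hinj
    haveI := hfl
    set J := I ^ (n + 1)
    let π := Ideal.Quotient.mk J
    let Ib : Ideal (R ⧸ J) := I.map π
    have hIb : Ib ^ (n + 1) = ⊥ := by
      rw [← Ideal.map_pow, Ideal.map_quotient_self]
    letI : Algebra (R ⧸ I) ((R ⧸ J) ⧸ Ib) :=
      (Ideal.Quotient.lift I ((Ideal.Quotient.mk Ib).comp π)
        (fun r hr => Ideal.Quotient.eq_zero_iff_mem.mpr (Ideal.mem_map_of_mem _ hr))).toAlgebra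
    haveI : IsScalarTower R (R ⧸ I) ((R ⧸ J) ⧸ Ib) := IsScalarTower.of_algebraMap_eq fun _ => rfl
    haveI : Module.Flat ((R ⧸ J) ⧸ Ib) (((R ⧸ J) ⧸ Ib) ⊗[R] M) :=
      Module.Flat.of_linearEquiv (AlgebraTensorModule.cancelBaseChange R (R ⧸ I) ((R ⧸ J) ⧸ Ib) _ M).symm
    have hflb : Module.Flat ((R ⧸ J) ⧸ Ib) (((R ⧸ J) ⧸ Ib) ⊗[R ⧸ J] ((R ⧸ J) ⊗[R] M)) :=
      Module.Flat.of_linearEquiv (AlgebraTensorModule.cancelBaseChange R (R ⧸ J) ((R ⧸ J) ⧸ Ib) _ M)
    let q : I →ₗ[R] Ib :=
      { toFun := fun x => ⟨π x, Ideal.mem_map_of_mem π x.2⟩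
        map_add' := fun x y => Subtype.ext (map_add π _ _)
        map_smul' := fun r x => Subtype.ext (map_mul π r x) }
    have hq : Function.Surjective q := by
      rintro ⟨y, hy⟩
      obtain ⟨x, hx, rfl⟩ := (Ideal.mem_map_iff_of_surjective π Ideal.Quotient.mk_surjective).1 hy
      exact ⟨⟨x, hx⟩, rfl⟩
    have hJI : J ≤ I := Ideal.pow_le_self (Nat.succ_ne_zero n)
    have hinj' : Function.Injective
        (((Submodule.subtype Ib).restrictScalars R).rTensor M) := by
      rw [injective_iff_map_eq_zero]
      intro w hw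
      obtain ⟨z, rfl⟩ := LinearMap.rTensor_surjective M hq w
      rw [← LinearMap.rTensor_comp_apply,
        show (Submodule.subtype Ib).restrictScalars R ∘ₗ q = J.mkQ ∘ₗ Submodule.subtype I from
          LinearMap.ext fun _ => rfl, LinearMap.rTensor_comp_apply] at hw
      obtain ⟨y, hy⟩ := (rTensor_exact M (f := Submodule.subtype J) (g := J.mkQ)
        (LinearMap.exact_subtype_mkQ J) J.mkQ_surjective _).mp hw
      rw [← Submodule.subtype_comp_inclusion J I hJI, LinearMap.rTensor_comp_apply] at hy
      rw [← hinj hy, ← LinearMap.rTensor_comp_apply,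
        show q ∘ₗ Submodule.inclusion hJI = 0 from LinearMap.ext fun x =>
          Subtype.ext (Ideal.Quotient.eq_zero_iff_mem.mpr x.2), LinearMap.rTensor_zero,
        LinearMap.zero_apply]
    have key : ∀ z, AlgebraTensorModule.cancelBaseChange R (R ⧸ J) (R ⧸ J) (R ⧸ J) M
        ((Submodule.subtype Ib).rTensor ((R ⧸ J) ⊗[R] M) z) =
        ((Submodule.subtype Ib).restrictScalars R).rTensor M
          (AlgebraTensorModule.cancelBaseChange R (R ⧸ J) (R ⧸ J) Ib M z) := by
      intro z
      induction z using TensorProduct.induction_on with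
      | zero => simp
      | tmul x y =>
        induction y using TensorProduct.induction_on with
        | zero => simp
        | tmul s m => simp
        | add u v hu hv => simp only [TensorProduct.tmul_add, map_add, hu, hv]
      | add u v hu hv => simp only [map_add, hu, hv]
    have hinjb : Function.Injective
        ((Submodule.subtype Ib).rTensor ((R ⧸ J) ⊗[R] M)) := fun a b hab =>
      (AlgebraTensorModule.cancelBaseChange R (R ⧸ J) (R ⧸ J) Ib M).injective
        (hinj' (by rw [← key, ← key, hab]))
    haveI : Module.Flat (R ⧸ J) ((R ⧸ J) ⊗[R] M) :=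
      ih (R ⧸ J) Ib ((R ⧸ J) ⊗[R] M) hIb hflb hinjb
    refine flat_of_flat_quotients I J (fun x hx y hy => ?_) M hinj
    rw [← Ideal.mem_bot, ← hI, pow_succ]
    exact Ideal.mul_mem_mul hy hx

theorem flat_iff (A : Type u) [CommRing A] (I : Ideal A) (hI : IsNilpotent I) (M : Type v)
    [AddCommGroup M] [Module A M] :
    Module.Flat A M ↔ Module.Flat (A ⧸ I) ((A ⧸ I) ⊗[A] M) ∧
      Function.Injective (LinearMap.rTensor M (Submodule.subtype I)) := by
  refine ⟨fun h => ⟨Module.Flat.baseChange A (A ⧸ I) M,
    Module.Flat.rTensor_preserves_injective_linearMap _ (Submodule.injective_subtype I)⟩,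
    fun ⟨h1, h2⟩ => ?_⟩
  obtain ⟨k, hk⟩ := hI
  have hk' : I ^ (k + 1) = ⊥ := by
    rw [eq_bot_iff]
    exact (Ideal.pow_le_pow_right k.le_succ).trans_eq hk
  let e : ULift.{u} M ≃ₗ[A] M := ULift.moduleEquiv
  haveI := h1
  haveI : Module.Flat (A ⧸ I) ((A ⧸ I) ⊗[A] ULift.{u} M) :=
    Module.Flat.of_linearEquiv (LinearEquiv.baseChange A (A ⧸ I) (ULift.{u} M) M e)
  have h2' : Function.Injective (LinearMap.rTensor (ULift.{u} M) (Submodule.subtype I)) := by
    intro a b hab
    apply (LinearEquiv.lTensor I e).injective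
    apply h2
    have hc : ∀ z, LinearMap.rTensor M (Submodule.subtype I) (LinearEquiv.lTensor I e z) =
        LinearEquiv.lTensor A e (LinearMap.rTensor (ULift.{u} M) (Submodule.subtype I) z) := fun z => by
      induction z using TensorProduct.induction_on with
      | zero => simp
      | tmul x y => simp
      | add u v hu hv => simp only [map_add, hu, hv]
    rw [hc, hc, hab]
  haveI : Module.Flat A (ULift.{u} M) :=
    flat_of_isNilpotent.{u, v} k A I (ULift.{u} M) hk' ‹_› h2'
  exact Module.Flat.of_linearEquiv e.symm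

end Groth.Agent.SGA1Misc
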