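import Mathlib

/-!
# Free algebras of rank 2 with 2 invertible: the trace involution
-/

set_option autoImplicit false
set_option linter.style.haveILetI false

universe u

open TensorProduct

namespace Groth.Agent.SGA1Misc.DoubleCover

variable {A B : Type u} [CommRing A] [CommRing B] [Algebra A B]

/-- `b ↦ tr b - b`. -/
noncomputable def invLin (A B : Type u) [CommRing A] [CommRing B] [Algebra A B] : B →ₗ[A] B :=
  (Algebra.linearMap A B).comp (Algebra.trace A B) - LinearMap.id

theorem invLin_apply (b : B) : invLin A B b = algebraMap A B (Algebra.trace A B b) - b := rfl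

theorem trace_mul_identity (bs : Module.Basis (Fin 2) A B) (x y : B) :
    x * y + x * y - algebraMap A B (Algebra.trace A B x) * y -
      algebraMap A B (Algebra.trace A B y) * x +
      algebraMap A B (Algebra.trace A B x * Algebra.trace A B y - Algebra.trace A B (x * y)) = 0 := by
  apply Algebra.leftMulMatrix_injective bs
  rw [map_zero]
  conv_lhs =>
    rw [map_add, map_sub, map_sub, map_add]
    arg 1
    arg 1
    arg 1
    arg 2
    rw [mul_comm x y]
  simp only [map_mul, AlgHom.commutes, Algebra.trace_eq_matrix_trace bs]
  generalize Algebra.leftMulMatrix bs x = M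
  generalize Algebra.leftMulMatrix bs y = N
  ext i j
  fin_cases i <;> fin_cases j <;>
    simp [Matrix.trace, Matrix.mul_apply, Fin.sum_univ_two, Matrix.algebraMap_eq_diagonal] <;> ring

theorem trace_one' (bs : Module.Basis (Fin 2) A B) (a : A) :
    Algebra.trace A B (algebraMap A B a) = a + a := by
  rw [Algebra.trace_algebraMap_of_basis bs, Fintype.card_fin, two_nsmul]

/-- The involution as an algebra endomorphism. -/
noncomputable def invHom (bs : Module.Basis (Fin 2) A B) : B →ₐ[A] B :=
  AlgHom.ofLinearMap (invLin A B)
    (by
      rw [invLin_apply, ← map_one (algebraMap A B), trace_one' bs, map_add, map_one,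
        add_sub_cancel_right])
    (fun x y => by
      have h := trace_mul_identity bs x y
      simp only [map_sub, map_mul] at h
      simp only [invLin_apply]
      linear_combination (-1 : B) * h)

theorem invHom_apply (bs : Module.Basis (Fin 2) A B) (b : B) :
    invHom bs b = algebraMap A B (Algebra.trace A B b) - b := rfl

theorem invHom_invHom (bs : Module.Basis (Fin 2) A B) (b : B) : invHom bs (invHom bs b) = b := by
  rw [invHom_apply bs b, map_sub, AlgHom.commutes, invHom_apply, sub_sub_cancel]

theorem injective_algebraMap (bs : Module.Basis (Fin 2) A B) (h2 : IsUnit (2 : A)) :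
    Function.Injective (algebraMap A B) := by
  intro a b hab
  have := congrArg (Algebra.trace A B) hab
  rw [trace_one' bs, trace_one' bs, ← two_mul, ← two_mul] at this
  exact h2.mul_left_cancel this

theorem mem_range_of_invHom_eq (bs : Module.Basis (Fin 2) A B) (h2 : IsUnit (2 : A)) {b : B}
    (h : invHom bs b = b) : b ∈ Set.range (algebraMap A B) := by
  obtain ⟨u, hu⟩ := h2.exists_left_inv
  refine ⟨u * Algebra.trace A B b, ?_⟩
  rw [invHom_apply, sub_eq_iff_eq_add] at h
  rw [map_mul, h, mul_add, ← add_mul, ← map_add, ← mul_two, hu, map_one, one_mul]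

/-- Trace commutes with base change. -/
theorem trace_baseChange {A' B' : Type u} [CommRing A'] [CommRing B'] [Algebra A A']
    [Algebra B B'] [Algebra A' B'] [Algebra A B'] [IsScalarTower A A' B'] [IsScalarTower A B B']
    [Algebra.IsPushout A A' B B'] [Module.Free A B] [Module.Finite A B] (b : B) :
    Algebra.trace A' B' (algebraMap B B' b) = algebraMap A A' (Algebra.trace A B b) := by
  have hbc : IsBaseChange A' (IsScalarTower.toAlgHom A B B').toLinearMap := Algebra.IsPushout.out
  let e := hbc.equiv
  have he : ∀ (a : A') (c : B), e (a ⊗ₜ c) = algebraMap A' B' a * algebraMap B B' c := fun a c => by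
    refine (hbc.equiv_tmul a c).trans ?_
    rw [Algebra.smul_def]; rfl
  rw [Algebra.trace_apply, Algebra.trace_apply, ← LinearMap.trace_baseChange,
    ← LinearMap.trace_conj' ((Algebra.lmul A B b).baseChange A') e]
  congr 1
  apply LinearMap.ext
  intro z
  obtain ⟨z, rfl⟩ := e.surjective z
  rw [LinearEquiv.conj_apply_apply, e.symm_apply_apply]
  change algebraMap B B' b * e z = _
  induction z using TensorProduct.induction_on with
  | zero => simp
  | tmul a c =>
    rw [LinearMap.baseChange_tmul, he, he]
    change _ = algebraMap A' B' a * algebraMap B B' (b * c)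
    rw [map_mul]; ring
  | add u v hu hv => simp only [map_add, mul_add, hu, hv]

end Groth.Agent.SGA1Misc.DoubleCover
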