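import Mathlib
import Groth.Prelude.Def_SGA1
import Groth.Agent.SGA1Quot.Basic
import Groth.Agent.SGA1Misc.DoubleCoverRing

/-!
# The involution of a double cover
-/

set_option autoImplicit false
set_option linter.style.haveILetI false

universe u

open CategoryTheory CategoryTheory.Limits AlgebraicGeometry Topology TopologicalSpace Opposite

namespace Groth.Agent.SGA1Misc.DoubleCover

variable {X Y : Scheme.{u}} (f : X ⟶ Y)

/-- An affine open of the base over which the cover is free of rank 2. -/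
def FreeAffine : Type u :=
  { U : Y.affineOpens //
    letI := (f.app U.1).hom.toAlgebra
    Nonempty (Module.Basis (Fin 2) Γ(Y, U.1) Γ(X, f ⁻¹ᵁ U.1)) }

instance : Preorder (FreeAffine f) :=
  inferInstanceAs (Preorder { U : Y.affineOpens //
    letI := (f.app U.1).hom.toAlgebra
    Nonempty (Module.Basis (Fin 2) Γ(Y, U.1) Γ(X, f ⁻¹ᵁ U.1)) })

variable {f}

/-- The underlying open. -/
abbrev FreeAffine.opens (U : FreeAffine f) : Y.Opens := U.1.1

variable [IsFinite f]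

theorem FreeAffine.isAffineOpen (U : FreeAffine f) : IsAffineOpen (f ⁻¹ᵁ U.opens) :=
  U.1.2.preimage f

/-- The ring involution over a free affine open. -/
noncomputable def invApp (U : FreeAffine f) : Γ(X, f ⁻¹ᵁ U.opens) ⟶ Γ(X, f ⁻¹ᵁ U.opens) :=
  letI := (f.app U.opens).hom.toAlgebra
  CommRingCat.ofHom (invHom U.2.some).toRingHom

theorem app_invApp (U : FreeAffine f) : f.app U.opens ≫ invApp U = f.app U.opens := by
  letI := (f.app U.opens).hom.toAlgebra
  ext a
  exact (invHom U.2.some).commutes a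

theorem invApp_invApp (U : FreeAffine f) : invApp U ≫ invApp U = 𝟙 _ := by
  letI := (f.app U.opens).hom.toAlgebra
  ext b
  exact invHom_invHom U.2.some b

theorem res_invApp {U V : FreeAffine f} (h : U.opens ≤ V.opens) :
    X.presheaf.map ((Opens.map f.base).map (homOfLE h)).op ≫ invApp U =
      invApp V ≫ X.presheaf.map ((Opens.map f.base).map (homOfLE h)).op := by
  letI iV := (f.app V.opens).hom.toAlgebra
  letI iU := (f.app U.opens).hom.toAlgebra
  letI : Algebra Γ(Y, V.opens) Γ(Y, U.opens) := (Y.presheaf.map (homOfLE h).op).hom.toAlgebra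
  letI : Algebra Γ(X, f ⁻¹ᵁ V.opens) Γ(X, f ⁻¹ᵁ U.opens) :=
    (X.presheaf.map ((Opens.map f.base).map (homOfLE h)).op).hom.toAlgebra
  letI : Algebra Γ(Y, V.opens) Γ(X, f ⁻¹ᵁ U.opens) :=
    (Y.presheaf.map (homOfLE h).op ≫ f.app U.opens).hom.toAlgebra
  haveI : IsScalarTower Γ(Y, V.opens) Γ(Y, U.opens) Γ(X, f ⁻¹ᵁ U.opens) :=
    IsScalarTower.of_algebraMap_eq fun _ => rfl
  haveI : IsScalarTower Γ(Y, V.opens) Γ(X, f ⁻¹ᵁ V.opens) Γ(X, f ⁻¹ᵁ U.opens) :=
    IsScalarTower.of_algebraMap_eq fun a => ConcreteCategory.congr_hom (f.naturality (homOfLE h).op) a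
  have hY : f ⁻¹ᵁ U.opens = (𝟙 X : X ⟶ X) ⁻¹ᵁ (f ⁻¹ᵁ V.opens) ⊓ f ⁻¹ᵁ U.opens :=
    (inf_eq_right.2 (fun x hx => h hx)).symm
  have H : IsPullback (𝟙 X) f f (𝟙 Y) := IsPullback.id_horiz f
  have hpush := (isIso_pushoutSection_iff H (UT := U.opens) (UX := f ⁻¹ᵁ V.opens) h le_rfl hY).1
    (isIso_pushoutSection_of_isAffineOpen H (UT := U.opens) (UX := f ⁻¹ᵁ V.opens) h le_rfl hY
      V.1.2 U.1.2 V.isAffineOpen)
  haveI : Algebra.IsPushout Γ(Y, V.opens) Γ(Y, U.opens) Γ(X, f ⁻¹ᵁ V.opens)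
      Γ(X, f ⁻¹ᵁ U.opens) := by
    refine CommRingCat.isPushout_iff_isPushout.1 ?_
    have := hpush.flip
    rw [SGA1Quot.id_appLE, SGA1Quot.id_appLE, ← Scheme.Hom.app_eq_appLE,
      ← Scheme.Hom.app_eq_appLE] at this
    exact this
  haveI : Module.Free Γ(Y, V.opens) Γ(X, f ⁻¹ᵁ V.opens) := Module.Free.of_basis V.2.some
  haveI : Module.Finite Γ(Y, V.opens) Γ(X, f ⁻¹ᵁ V.opens) := Module.Finite.of_basis V.2.some
  ext b
  change invHom U.2.some (algebraMap _ _ b) = algebraMap _ _ (invHom V.2.some b)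
  rw [invHom_apply, invHom_apply, trace_baseChange (A := Γ(Y, V.opens)) (B := Γ(X, f ⁻¹ᵁ V.opens)),
    map_sub]
  congr 1
  exact ConcreteCategory.congr_hom (f.naturality (homOfLE h).op).symm
    (Algebra.trace Γ(Y, V.opens) Γ(X, f ⁻¹ᵁ V.opens) b) |>.symm

/-- The involution on the inverse image of a free affine open. -/
noncomputable def invMap (U : FreeAffine f) : (f ⁻¹ᵁ U.opens).toScheme ⟶ X :=
  U.isAffineOpen.isoSpec.hom ≫ Spec.map (invApp U) ≫ U.isAffineOpen.fromSpec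

theorem homOfLE_invMap {U V : FreeAffine f} (h : U.opens ≤ V.opens) :
    X.homOfLE (show f ⁻¹ᵁ U.opens ≤ f ⁻¹ᵁ V.opens from fun _ hx => h hx) ≫ invMap V =
      invMap U := by
  have h1 : X.homOfLE (show f ⁻¹ᵁ U.opens ≤ f ⁻¹ᵁ V.opens from fun _ hx => h hx) ≫
      V.isAffineOpen.isoSpec.hom = U.isAffineOpen.isoSpec.hom ≫
        Spec.map (X.presheaf.map ((Opens.map f.base).map (homOfLE h)).op) := by
    simp only [IsAffineOpen.isoSpec_hom]
    exact (Scheme.Opens.toSpecΓ_SpecMap_presheaf_map _ _ _).symm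
  rw [invMap, invMap, reassoc_of% h1, ← Spec.map_comp_assoc, ← res_invApp h, Spec.map_comp_assoc,
    IsAffineOpen.map_fromSpec]

variable [Flat f] [LocallyOfFinitePresentation f]

theorem exists_freeAffine (hrk : ∀ y : Y, f.finrank y = 2) (O : Y.Opens) (y : Y) (hy : y ∈ O) :
    ∃ U : FreeAffine f, y ∈ U.opens ∧ U.opens ≤ O := by
  obtain ⟨V, hV, hyV, hVO⟩ := exists_isAffineOpen_mem_and_subset (x := y) (U := O) hy
  letI := (f.app V).hom.toAlgebra
  haveI : Module.Finite Γ(Y, V) Γ(X, f ⁻¹ᵁ V) := f.finite_app V hV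
  haveI : Module.Flat Γ(Y, V) Γ(X, f ⁻¹ᵁ V) := by
    have := f.flat_appLE hV (hV.preimage f) le_rfl
    rwa [← Scheme.Hom.app_eq_appLE] at this
  haveI : Algebra.FinitePresentation Γ(Y, V) Γ(X, f ⁻¹ᵁ V) := by
    have := LocallyOfFinitePresentation.finitePresentation_appLE (f := f) hV (hV.preimage f) le_rfl
    rwa [← Scheme.Hom.app_eq_appLE] at this
  haveI : Module.FinitePresentation Γ(Y, V) Γ(X, f ⁻¹ᵁ V) :=
    Module.FinitePresentation.of_finite_of_finitePresentation _ _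
  let P := hV.primeIdealOf ⟨y, hyV⟩
  haveI : Module.Free (Localization.AtPrime P.asIdeal)
      (LocalizedModule P.asIdeal.primeCompl Γ(X, f ⁻¹ᵁ V)) := Module.free_of_flat_of_isLocalRing
  obtain ⟨r, hr, hfree, -⟩ := Module.FinitePresentation.exists_free_localizedModule_powers
    P.asIdeal.primeCompl (LocalizedModule.mkLinearMap P.asIdeal.primeCompl Γ(X, f ⁻¹ᵁ V))
    (Localization.AtPrime P.asIdeal)
  let U := Y.basicOpen r
  have hU : IsAffineOpen U := hV.basicOpen r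
  have hyU : y ∈ U := by
    rw [show y = hV.fromSpec P from (hV.fromSpec_primeIdealOf ⟨y, hyV⟩).symm]
    change P ∈ hV.fromSpec ⁻¹ᵁ Y.basicOpen r
    rw [hV.fromSpec_preimage_basicOpen]
    exact hr
  refine ⟨⟨⟨U, hU⟩, ?_⟩, hyU, (Y.basicOpen_le r).trans hVO⟩
  letI iU := (f.app U).hom.toAlgebra
  have hle : U ≤ V := Y.basicOpen_le r
  letI : Algebra Γ(Y, V) Γ(Y, U) := (Y.presheaf.map (homOfLE hle).op).hom.toAlgebra
  letI : Algebra Γ(X, f ⁻¹ᵁ V) Γ(X, f ⁻¹ᵁ U) :=
    (X.presheaf.map ((Opens.map f.base).map (homOfLE hle)).op).hom.toAlgebra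
  letI : Algebra Γ(Y, V) Γ(X, f ⁻¹ᵁ U) := (Y.presheaf.map (homOfLE hle).op ≫ f.app U).hom.toAlgebra
  haveI : IsScalarTower Γ(Y, V) Γ(Y, U) Γ(X, f ⁻¹ᵁ U) :=
    IsScalarTower.of_algebraMap_eq fun _ => rfl
  haveI : IsScalarTower Γ(Y, V) Γ(X, f ⁻¹ᵁ V) Γ(X, f ⁻¹ᵁ U) :=
    IsScalarTower.of_algebraMap_eq fun a =>
      ConcreteCategory.congr_hom (f.naturality (homOfLE hle).op) a
  haveI hlY : IsLocalization.Away r Γ(Y, U) := hV.isLocalization_basicOpen r
  haveI hlX : IsLocalization.Away ((f.app V).hom r) Γ(X, f ⁻¹ᵁ U) :=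
    (hV.preimage f).isLocalization_of_eq_basicOpen _ ((Opens.map f.base).map (homOfLE hle))
      (Scheme.preimage_basicOpen f r)
  haveI : IsLocalizedModule (Submonoid.powers r)
      (IsScalarTower.toAlgHom Γ(Y, V) Γ(X, f ⁻¹ᵁ V) Γ(X, f ⁻¹ᵁ U)).toLinearMap := by
    refine isLocalizedModule_iff_isLocalization.mpr ?_
    rw [Algebra.algebraMapSubmonoid, Submonoid.map_powers]
    exact hlX
  let e₀ : LocalizedModule (Submonoid.powers r) Γ(X, f ⁻¹ᵁ V) ≃ₗ[Γ(Y, V)] Γ(X, f ⁻¹ᵁ U) :=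
    IsLocalizedModule.iso (Submonoid.powers r)
      (IsScalarTower.toAlgHom Γ(Y, V) Γ(X, f ⁻¹ᵁ V) Γ(X, f ⁻¹ᵁ U)).toLinearMap
  haveI : Module.Free Γ(Y, U) Γ(X, f ⁻¹ᵁ U) := by
    let b := Module.Free.chooseBasis (Localization (Submonoid.powers r))
      (LocalizedModule (Submonoid.powers r) Γ(X, f ⁻¹ᵁ V))
    let eA : Localization (Submonoid.powers r) ≃ₐ[Γ(Y, V)] Γ(Y, U) :=
      IsLocalization.algEquiv (Submonoid.powers r) _ _
    haveI : RingHomInvPair (eA : Localization (Submonoid.powers r) →+* Γ(Y, U))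
        (eA.symm : Γ(Y, U) →+* Localization (Submonoid.powers r)) :=
      RingHomInvPair.of_ringEquiv eA.toRingEquiv
    haveI : RingHomInvPair (eA.symm : Γ(Y, U) →+* Localization (Submonoid.powers r))
        (eA : Localization (Submonoid.powers r) →+* Γ(Y, U)) :=
      RingHomInvPair.of_ringEquiv eA.symm.toRingEquiv
    let e₁ : LocalizedModule (Submonoid.powers r) Γ(X, f ⁻¹ᵁ V)
        ≃ₛₗ[(eA : Localization (Submonoid.powers r) →+* Γ(Y, U))] Γ(X, f ⁻¹ᵁ U) :=
      { e₀.toAddEquiv with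
        map_smul' := fun c m => by
          obtain ⟨a, s, rfl⟩ := IsLocalization.exists_mk'_eq (Submonoid.powers r) c
          have hu : IsUnit (algebraMap Γ(Y, V) Γ(Y, U) s) := IsLocalization.map_units _ s
          apply (hu.smul_left_cancel (β := Γ(X, f ⁻¹ᵁ U))).1
          change algebraMap Γ(Y, V) Γ(Y, U) s • e₀ _ =
            algebraMap Γ(Y, V) Γ(Y, U) s • ((eA _) • e₀ m)
          rw [← mul_smul, algebraMap_smul]
          have e1 : algebraMap Γ(Y, V) Γ(Y, U) s * eA (IsLocalization.mk'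
              (Localization (Submonoid.powers r)) a s) = algebraMap Γ(Y, V) Γ(Y, U) a := by
            rw [← eA.commutes (s : Γ(Y, V)), ← map_mul, IsLocalization.mk'_spec', eA.commutes]
          rw [e1, algebraMap_smul, ← e₀.map_smul, ← e₀.map_smul]
          congr 1
          rw [← algebraMap_smul (Localization (Submonoid.powers r)) (s : Γ(Y, V)), ← mul_smul,
            IsLocalization.mk'_spec', algebraMap_smul] }
    exact Module.Free.of_equiv e₁
  haveI : Module.Finite Γ(Y, U) Γ(X, f ⁻¹ᵁ U) := f.finite_app U hU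
  haveI : Module.Flat Γ(Y, U) Γ(X, f ⁻¹ᵁ U) := inferInstance
  rcases subsingleton_or_nontrivial Γ(Y, U) with hs | hn
  · haveI : Subsingleton Γ(X, f ⁻¹ᵁ U) := Module.subsingleton Γ(Y, U) _
    exact ⟨Module.Basis.ofEquivFun
      { toFun := fun _ => 0
        invFun := fun _ => 0
        map_add' := fun _ _ => Subsingleton.elim _ _
        map_smul' := fun _ _ => Subsingleton.elim _ _
        left_inv := fun _ => Subsingleton.elim _ _
        right_inv := fun _ => Subsingleton.elim _ _ }⟩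
  · refine ⟨Module.finBasisOfFinrankEq Γ(Y, U) Γ(X, f ⁻¹ᵁ U) ?_⟩
    let q : Spec Γ(Y, U) := hU.primeIdealOf ⟨y, hyU⟩
    have hpb : IsPullback (hU.preimage f).fromSpec (Spec.map (f.app U)) f hU.fromSpec := by
      haveI : IsAffine U.toScheme := hU
      haveI : IsAffine (f ⁻¹ᵁ U).toScheme := hU.preimage f
      refine (isPullback_morphismRestrict f U).flip.of_iso (hU.preimage f).isoSpec (Iso.refl _)
        hU.isoSpec (Iso.refl _) ?_ ?_ ?_ ?_
      · rw [IsAffineOpen.isoSpec_hom, IsAffineOpen.toSpecΓ_fromSpec]; simp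
      · simp only [IsAffineOpen.isoSpec_hom, morphismRestrict, Category.assoc]
        rw [Scheme.Hom.app_eq_appLE, Scheme.Opens.toSpecΓ_SpecMap_appLE, Scheme.Hom.resLE_eq_morphismRestrict]
        rfl
      · simp
      · rw [IsAffineOpen.isoSpec_hom, IsAffineOpen.toSpecΓ_fromSpec]; simp
    have := Scheme.Hom.finrank_of_isPullback _ _ _ _ hpb q
    rw [hrk] at this
    have hr' : Module.rankAtStalk (R := Γ(Y, U)) Γ(X, f ⁻¹ᵁ U) q = 2 :=
      (Scheme.Hom.finrank_SpecMap_algebraMap Γ(Y, U) Γ(X, f ⁻¹ᵁ U) q).symm.trans this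
    rw [Module.rankAtStalk_eq_finrank_of_free] at hr'
    exact hr'

theorem exists_involution (hrk : ∀ y : Y, f.finrank y = 2) (h2 : IsUnit (2 : Γ(Y, ⊤))) :
    ∃ σ : Aut X, σ.hom ≫ f = f ∧ σ * σ = 1 ∧ SGA1.IsQuot (Subgroup.zpowers σ).subtype f := by
  classical
  have hcov : TopologicalSpace.IsOpenCover fun U : FreeAffine f => f ⁻¹ᵁ U.opens :=
    TopologicalSpace.IsOpenCover.mk (eq_top_iff.2 fun x _ => by
      obtain ⟨U, hU, -⟩ := exists_freeAffine hrk ⊤ (f.base x) trivial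
      exact Opens.mem_iSup.2 ⟨U, hU⟩)
  let 𝒰 : X.OpenCover := X.openCoverOfIsOpenCover _ hcov
  letI : Category.{u} 𝒰.I₀ := inferInstanceAs (Category (FreeAffine f))
  letI : 𝒰.LocallyDirected :=
    { trans := fun {i j} hij => X.homOfLE (fun _ hx => leOfHom (X := FreeAffine f) hij hx)
      trans_id := fun i => Scheme.homOfLE_rfl X _
      trans_comp := fun _ _ => (Scheme.homOfLE_homOfLE X _ _).symm
      w := fun _ => Scheme.homOfLE_ι X _
      directed := fun {U₁ U₂} z => by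
        let x := (pullback.fst (𝒰.f U₁) (𝒰.f U₂) ≫ 𝒰.f U₁).base z
        have h1 : f.base x ∈ FreeAffine.opens U₁ := by
          exact ((pullback.fst (𝒰.f U₁) (𝒰.f U₂)).base z).2
        have h2 : f.base x ∈ FreeAffine.opens U₂ := by
          have : x = (pullback.snd (𝒰.f U₁) (𝒰.f U₂) ≫ 𝒰.f U₂).base z := by
            simp only [x, pullback.condition]
          rw [this]
          exact ((pullback.snd (𝒰.f U₁) (𝒰.f U₂)).base z).2
        obtain ⟨W, hxW, hW⟩ := exists_freeAffine hrk (FreeAffine.opens U₁ ⊓ FreeAffine.opens U₂)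
          (f.base x) ⟨h1, h2⟩
        refine ⟨W, homOfLE (X := FreeAffine f) (hW.trans inf_le_left : W.opens ≤ _),
          homOfLE (X := FreeAffine f) (hW.trans inf_le_right : W.opens ≤ _), ⟨x, hxW⟩, ?_⟩
        apply (pullback.fst (𝒰.f U₁) (𝒰.f U₂) ≫ 𝒰.f U₁).isOpenEmbedding.injective
        rw [← Scheme.Hom.comp_apply, pullback.lift_fst_assoc]
        erw [Scheme.homOfLE_ι]
        rfl
      property_trans := fun {i j} hij =>
        (inferInstance : IsOpenImmersion (X.homOfLE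
          (fun _ hx => leOfHom (X := FreeAffine f) hij hx : f ⁻¹ᵁ _ ≤ f ⁻¹ᵁ _))) }
  let s : X ⟶ X := 𝒰.glueMorphismsOfLocallyDirected (fun U => invMap U)
    fun {U V} hij => homOfLE_invMap (leOfHom (X := FreeAffine f) hij)
  have hs : ∀ U : FreeAffine f, (f ⁻¹ᵁ U.opens).ι ≫ s = invMap U := fun U =>
    𝒰.map_glueMorphismsOfLocallyDirected _ _ U
  have hsf : ∀ U : FreeAffine f, U.isAffineOpen.fromSpec ≫ s =
      Spec.map (invApp U) ≫ U.isAffineOpen.fromSpec := fun U => by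
    conv_lhs => rw [IsAffineOpen.fromSpec, Category.assoc, hs, invMap, Iso.inv_hom_id_assoc]
  have hf : s ≫ f = f := by
    refine 𝒰.hom_ext _ _ fun U => ?_
    change Scheme.Opens.ι (f ⁻¹ᵁ FreeAffine.opens U) ≫ s ≫ f =
      Scheme.Opens.ι (f ⁻¹ᵁ FreeAffine.opens U) ≫ f
    rw [← Category.assoc, hs, invMap, Category.assoc, Category.assoc]
    have e2 := IsAffineOpen.SpecMap_appLE_fromSpec f (Subtype.val U).2 (FreeAffine.isAffineOpen U)
      (le_refl (f ⁻¹ᵁ FreeAffine.opens U))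
    rw [← Scheme.Hom.app_eq_appLE] at e2
    rw [← e2, ← Spec.map_comp_assoc, app_invApp, e2, IsAffineOpen.isoSpec_hom,
      IsAffineOpen.toSpecΓ_fromSpec_assoc]
  have hss : s ≫ s = 𝟙 X := by
    refine 𝒰.hom_ext _ _ fun U => ?_
    change Scheme.Opens.ι (f ⁻¹ᵁ FreeAffine.opens U) ≫ s ≫ s =
      Scheme.Opens.ι (f ⁻¹ᵁ FreeAffine.opens U) ≫ 𝟙 X
    rw [← Category.assoc, hs, invMap, Category.assoc, Category.assoc, hsf,
      ← Spec.map_comp_assoc, invApp_invApp, Spec.map_id, Category.id_comp, Category.comp_id,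
      IsAffineOpen.isoSpec_hom, IsAffineOpen.toSpecΓ_fromSpec]
  let σ : Aut X := ⟨s, s, hss, hss⟩
  have hσσ : σ * σ = 1 := Iso.ext hss
  have hmem : ∀ g : Subgroup.zpowers σ, g.1 = 1 ∨ g.1 = σ := by
    rintro ⟨g, k, rfl⟩
    rcases Int.even_or_odd' k with ⟨m, rfl | rfl⟩
    · left
      change σ ^ (2 * m) = 1
      rw [zpow_mul, zpow_two, hσσ, one_zpow]
    · right
      change σ ^ (2 * m + 1) = σ
      rw [zpow_add, zpow_mul, zpow_two, hσσ, one_zpow, one_mul, zpow_one]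
  haveI : Finite (Subgroup.zpowers σ) :=
    Finite.of_injective (fun g : Subgroup.zpowers σ => decide (g.1 = 1)) (by
      intro a b hab
      simp only [decide_eq_decide] at hab
      apply Subtype.ext
      rcases hmem a with ha | ha <;> rcases hmem b with hb | hb
      · rw [ha, hb]
      · rw [ha, hab.1 ha]
      · rw [hb, hab.2 hb]
      · rw [ha, hb])
  refine ⟨σ, hf, hσσ, ?_⟩
  have hinv : ∀ g : Subgroup.zpowers σ, ((Subgroup.zpowers σ).subtype g).hom ≫ f = f := fun g => by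
    rcases hmem g with hg | hg
    · change (g.1).hom ≫ f = f
      rw [hg]; exact Category.id_comp f
    · change (g.1).hom ≫ f = f
      rw [hg]; exact hf
  refine SGA1Quot.isQuot_of_affine_cover (hinv := hinv) fun y => ?_
  obtain ⟨U, hyU, -⟩ := exists_freeAffine hrk ⊤ y trivial
  refine ⟨U.opens, U.1.2, hyU, ?_⟩
  letI := (f.app U.opens).hom.toAlgebra
  have h2U : IsUnit (2 : Γ(Y, U.opens)) := by
    have := h2.map (Y.presheaf.map (homOfLE (le_top (a := U.opens))).op).hom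
    rwa [map_ofNat] at this
  refine ⟨injective_algebraMap U.2.some h2U, fun t ht => mem_range_of_invHom_eq U.2.some h2U ?_⟩
  have h1 := ht ⟨σ, Subgroup.mem_zpowers σ⟩
  have happ : s.appLE (f ⁻¹ᵁ U.opens) (f ⁻¹ᵁ U.opens)
      (SGA1.preimage_le_of_inv (Subgroup.zpowers σ).subtype f hinv ⟨σ, Subgroup.mem_zpowers σ⟩ U.opens) =
      invApp U := by
    apply Spec.map_injective
    rw [← cancel_mono U.isAffineOpen.fromSpec,
      IsAffineOpen.SpecMap_appLE_fromSpec s U.isAffineOpen U.isAffineOpen, hsf]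
  exact (ConcreteCategory.congr_hom happ t).symm.trans h1

end Groth.Agent.SGA1Misc.DoubleCover
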